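import Groth.Agent.ParaFUFD.Punctured
import Groth.Agent.GrassLib.Nagata
import Groth.Agent.GenLocus.PullFrame

/-!
# Factoriality of a local ring in terms of the Picard group of its punctured spectrum
-/

set_option autoImplicit false
set_option backward.isDefEq.respectTransparency false
set_option backward.isDefEq.respectTransparency.types false
set_option linter.style.haveILetI false

noncomputable section

universe u

open CategoryTheory AlgebraicGeometry TopologicalSpace Opposite
open Groth.Agent.QCohBase Groth.Agent.GenLocus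

namespace Groth.Agent.ParaFUFD

variable {A : Type u} [CommRing A]

local notation "P" => Spec (CommRingCat.of A)

/-- sections over a basic open as fractions -/
theorem exists_glo_mul (f : A) (u : Γ(P, (PrimeSpectrum.basicOpen f : (P).Opens))) :
    ∃ (r : A) (n : ℕ), u * glo (PrimeSpectrum.basicOpen f) (f ^ n) = glo (PrimeSpectrum.basicOpen f) r := by
  let D : (P).Opens := PrimeSpectrum.basicOpen f
  letI : Algebra A Γ(P, D) := (StructureSheaf.openAlgebra (R := A) (op D))
  haveI : IsLocalization.Away f Γ(P, D) :=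
    inferInstanceAs (IsLocalization.Away f ((Spec.structureSheaf A).presheaf.obj (op (PrimeSpectrum.basicOpen f))))
  obtain ⟨⟨r, ⟨_, n, rfl⟩⟩, hr⟩ := IsLocalization.surj (Submonoid.powers f) u
  have halg : ∀ z : A, algebraMap A Γ(P, D) z = glo D z := fun z => rfl
  simp only [halg] at hr
  exact ⟨r, n, hr⟩

variable [IsDomain A]

theorem basicOpen_nonempty {f : A} (hf : f ≠ 0) :
    (SetLike.coe (PrimeSpectrum.basicOpen f : (P).Opens)).Nonempty :=
  ⟨(⟨⊥, Ideal.bot_prime⟩ : PrimeSpectrum A), fun h => hf (Ideal.mem_bot.1 h)⟩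

variable (A) in
/-- the inclusion of an ideal as a map of sheaves -/
def idealHom (I : Ideal A) : tilde (ModuleCat.of (CommRingCat.of A) I) ⟶ Coh.structureModule P :=
  tilde.map (R := CommRingCat.of A) (ModuleCat.ofHom I.subtype) ≫ tildeSelf.hom

/-- an element of an ideal as a section -/
def sec {I : Ideal A} (W : (P).Opens) (v : I) : Γ(tilde (ModuleCat.of (CommRingCat.of A) I), W) :=
  (tilde.toOpen (ModuleCat.of (CommRingCat.of A) I) W).hom v

omit [IsDomain A] in
theorem mres_sec {I : Ideal A} {W W' : (P).Opens} (h : W' ≤ W) (v : I) :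
    mres (tilde (ModuleCat.of (CommRingCat.of A) I)) h (sec W v) = sec W' v := rfl

omit [IsDomain A] in
theorem idealHom_sec {I : Ideal A} (W : (P).Opens) (v : I) :
    (idealHom A I).app W (sec W v) = glo W (v : A) := by
  have h := DFunLike.congr_fun (congrArg ModuleCat.Hom.hom
    (tilde.toOpen_map_app (R := CommRingCat.of A) (ModuleCat.ofHom I.subtype) W)) v
  exact h.trans rfl

omit [IsDomain A] in
theorem glo_smul_sec {I : Ideal A} (W : (P).Opens) (r : A) (v : I) :
    glo W r • sec W v = sec W (r • v) :=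
  ((tilde.toOpen (ModuleCat.of (CommRingCat.of A) I) W).hom.map_smul r v).symm

omit [IsDomain A] in
/-- If an ideal is generated by `g` after inverting `f`, then `g` is a frame over `D(f)`. -/
theorem isFrame_sec [IsDomain A] {I : Ideal A} {f : A} {g : I} (hg : (g : A) ≠ 0)
    (hgen : ∀ z ∈ I, (g : A) ∣ f * z) :
    IsFrame (tilde (ModuleCat.of (CommRingCat.of A) I)) (sec (PrimeSpectrum.basicOpen f) g) := by
  refine isFrame_of_basicOpens fun h hh => ?_
  set D : (P).Opens := PrimeSpectrum.basicOpen h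
  set M := ModuleCat.of (CommRingCat.of A) I
  rw [mres_sec]
  by_cases h0 : h = 0
  · have hemp : ¬ (D : Set P).Nonempty := fun ⟨x, hx⟩ => hx (h0 ▸ Ideal.zero_mem _)
    exact ⟨fun a b _ => mres_bot_ext (Coh.structureModule P) hemp a b,
      fun y => ⟨0, mres_bot_ext _ hemp _ _⟩⟩
  have hne : (D : Set P).Nonempty := basicOpen_nonempty h0
  have hu : ∀ n : ℕ, IsUnit (glo D (h ^ n)) := fun n =>
    (isUnit_glo_iff D _).2 fun x hx hm => hx (x.isPrime.mem_of_pow_mem _ hm)
  haveI : IsLocalizedModule (Submonoid.powers h) (tilde.toOpen M (PrimeSpectrum.basicOpen h)).hom :=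
    @AlgebraicGeometry.tilde.instAwayCarrierCarrierObjOppositeOpensCarrierCarrierCommRingCatSpecModuleCatPresheafModulesSheafModulesSpecToSheafOpBasicOpenHomToOpen (CommRingCat.of A) M h
  have hinj : ∀ v : I, sec D v = 0 → v = 0 := by
    intro v hv
    obtain ⟨⟨_, n, rfl⟩, hn⟩ := IsLocalizedModule.exists_of_eq (S := Submonoid.powers h)
      (f := (tilde.toOpen M (PrimeSpectrum.basicOpen h)).hom) (x₁ := v) (x₂ := (0 : I)) (by rw [map_zero]; exact hv)
    refine (smul_eq_zero.1 (hn.trans (smul_zero _))).resolve_left (pow_ne_zero n h0)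
  refine ⟨fun a b hab => ?_, fun y => ?_⟩
  · obtain ⟨r, n, hr⟩ := exists_glo_mul h a
    obtain ⟨s, m, hs⟩ := exists_glo_mul h b
    have e : sec D ((r * h ^ m - s * h ^ n) • g) = 0 := by
      rw [← glo_smul_sec]
      have : glo D (r * h ^ m - s * h ^ n) = (a - b) * (glo D (h ^ n) * glo D (h ^ m)) := by
        rw [show glo D (r * h ^ m - s * h ^ n) = glo D r * glo D (h ^ m) - glo D s * glo D (h ^ n) by simp [glo],
          ← hr, ← hs]
        ring
      rw [this, mul_comm, mul_smul, sub_smul]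
      rw [show a • sec D g = b • sec D g from hab, sub_self, smul_zero]
    have e' := congrArg Subtype.val (hinj _ e)
    have e'' : r * h ^ m - s * h ^ n = 0 := by
      simpa [hg] using e'
    refine ((hu n).mul (hu m)).mul_right_cancel ?_
    calc a * (glo D (h ^ n) * glo D (h ^ m)) = glo D (r * h ^ m) := by rw [glo_mul, ← mul_assoc, hr]
      _ = glo D (s * h ^ n) := by rw [sub_eq_zero.1 e'']
      _ = b * (glo D (h ^ n) * glo D (h ^ m)) := by rw [glo_mul, ← hs]; ring
  · obtain ⟨⟨v, ⟨_, k, rfl⟩⟩, hv⟩ := IsLocalizedModule.surj (Submonoid.powers h)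
      (tilde.toOpen M (PrimeSpectrum.basicOpen h)).hom y
    have hv' : glo D (h ^ k) • y = sec D v := hv
    obtain ⟨c, hc⟩ := hgen v v.2
    obtain ⟨j, d, hd⟩ : ∃ (j : ℕ) (d : A), h ^ j = f * d := by
      have : h ∈ (Ideal.span {f}).radical :=
        (PrimeSpectrum.basicOpen_le_basicOpen_iff h f).1 hh
      obtain ⟨j, hj⟩ := this
      obtain ⟨d, hd⟩ := Ideal.mem_span_singleton.1 hj
      exact ⟨j, d, hd⟩
    obtain ⟨w, hw⟩ := (hu (j + k)).exists_left_inv
    refine ⟨w * glo D (d * c), ?_⟩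
    have e : (d * c) • g = h ^ j • v := Subtype.ext (by
      show d * c * (g : A) = h ^ j * Subtype.val v
      rw [hd]; linear_combination (-d) * hc)
    show (w * glo D (d * c)) • sec D g = y
    rw [mul_smul, glo_smul_sec, e, ← glo_smul_sec, ← hv', smul_smul, smul_smul, mul_assoc, ← glo_mul, ← pow_add, hw, one_smul]

variable [IsNoetherianRing A] [IsLocalRing A]

omit [IsNoetherianRing A] in
/-- divisibility can be tested on the punctured spectrum of a ring of depth two -/
theorem dvd_of_punctured (hd : ∃ x y : A, x ∈ IsLocalRing.maximalIdeal A ∧ y ∈ IsLocalRing.maximalIdeal A ∧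
      x ≠ 0 ∧ ∀ w, x ∣ y * w → x ∣ w) {a z : A} (ha : a ≠ 0)
    (h : ∀ p : PrimeSpectrum A, p ≠ IsLocalRing.closedPoint A → ∃ s ∉ p.asIdeal, a ∣ s * z) : a ∣ z := by
  let J : Ideal A :=
    { carrier := {s | a ∣ s * z}
      zero_mem' := by simp
      add_mem' := fun {s t} hs ht => by simpa [add_mul] using dvd_add hs ht
      smul_mem' := fun c s hs => by simpa [mul_assoc] using dvd_mul_of_dvd_right hs c }
  have hJ : ∀ x ∈ IsLocalRing.maximalIdeal A, ∃ n, a ∣ x ^ n * z := by
    intro x hx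
    have : x ∈ J.radical := by
      rw [Ideal.radical_eq_sInf]
      refine Ideal.mem_sInf.2 fun p hp => ?_
      obtain ⟨hle, hpp⟩ := hp
      by_cases he : (⟨p, hpp⟩ : PrimeSpectrum A) = IsLocalRing.closedPoint A
      · rw [show p = IsLocalRing.maximalIdeal A from congrArg PrimeSpectrum.asIdeal he]; exact hx
      · obtain ⟨s, hs, hsz⟩ := h _ he
        exact absurd (hle hsz) hs
    exact this
  obtain ⟨x, y, hx, hy, hx0, hreg⟩ := hd
  obtain ⟨N, p, hp⟩ := hJ x hx
  obtain ⟨M, q, hq⟩ := hJ y hy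
  have key : y ^ M * p = x ^ N * q := mul_left_cancel₀ ha (by linear_combination x ^ N * hq - y ^ M * hp)
  obtain ⟨p', rfl⟩ := dvd_of_pow_dvd_mul hx0 hreg N M p ⟨q, key⟩
  exact ⟨p', mul_left_cancel₀ (pow_ne_zero N hx0) (by linear_combination hp)⟩

omit [IsDomain A] in
theorem exists_regular_pair (hd : (2 : ℕ∞) ≤ LocCoh.depth A A) :
    ∃ x y : A, x ∈ IsLocalRing.maximalIdeal A ∧ y ∈ IsLocalRing.maximalIdeal A ∧
      x ≠ 0 ∧ ∀ w, x ∣ y * w → x ∣ w := by
  obtain ⟨rs, hl, hm, hr⟩ := (Depth.le_idealDepth_iff_exists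
    (Depth.smul_top_ne_top_self (IsLocalRing.maximalIdeal.isMaximal _).ne_top) (n := 2)).mp hd
  match rs, hl with
  | [x, y], _ =>
    refine ⟨x, y, hm x (by simp), hm y (by simp), fun h0 => ?_, (FlatPurLib.dvd_of_isWeaklyRegular hr).2⟩
    exact one_ne_zero (α := A) ((FlatPurLib.dvd_of_isWeaklyRegular hr).1 (show x • (1 : A) = x • 0 by simp [h0]))

/-- A local domain of depth two with factorial punctured spectrum and trivial Picard group there is factorial. -/
theorem ufd_of_punctured (hd : (2 : ℕ∞) ≤ LocCoh.depth A A)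
    (hU : ∀ p : PrimeSpectrum A, p ≠ IsLocalRing.closedPoint A →
      UniqueFactorizationMonoid (Localization.AtPrime p.asIdeal))
    (hpic : ParaF.PicTrivial (FEt.puncturedSpec A : Scheme.{u})) :
    UniqueFactorizationMonoid A := by
  classical
  set U := FEt.puncturedSpec A
  refine RegUFD.ufd_of_inf_principal fun a₀ b₀ ha₀ hb₀ => ?_
  set I : Ideal A := Ideal.span {a₀} ⊓ Ideal.span {b₀}
  set M := tilde (ModuleCat.of (CommRingCat.of A) I)
  have hab : a₀ * b₀ ∈ I := ⟨Ideal.mem_span_singleton.2 (dvd_mul_right _ _), Ideal.mem_span_singleton.2 (dvd_mul_left _ _)⟩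
  -- local generators
  have key : ∀ p : PrimeSpectrum A, p ≠ IsLocalRing.closedPoint A → ∃ (f : A) (g : I),
      f ∉ p.asIdeal ∧ (g : A) ≠ 0 ∧ (PrimeSpectrum.basicOpen f : (P).Opens) ≤ U ∧ ∀ z ∈ I, (g : A) ∣ f * z := by
    intro p hp
    haveI := hU p hp
    let L := Localization.AtPrime p.asIdeal
    have hmap : I.map (algebraMap A L) = Ideal.span {algebraMap A L a₀} ⊓ Ideal.span {algebraMap A L b₀} := by
      refine le_antisymm ?_ fun w hw => ?_
      · rw [← Set.image_singleton, ← Ideal.map_span, ← Set.image_singleton, ← Ideal.map_span]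
        exact Ideal.map_inf_le _
      · obtain ⟨⟨r, s⟩, hrs⟩ := IsLocalization.surj p.asIdeal.primeCompl w
        simp only at hrs
        have hr : ∀ c, w ∈ Ideal.span {algebraMap A L c} → ∃ t ∉ p.asIdeal, c ∣ t * r := fun c hc => by
          obtain ⟨v, hv⟩ := Ideal.mem_span_singleton.1 hc
          obtain ⟨⟨v', t⟩, hv'⟩ := IsLocalization.surj p.asIdeal.primeCompl v
          simp only at hv'
          obtain ⟨u, hu⟩ := (IsLocalization.eq_iff_exists p.asIdeal.primeCompl L (x := t * r) (y := c * v' * s)).1 (by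
            simp only [map_mul]; rw [← hrs, ← hv', hv]; ring)
          exact ⟨u * t, fun h => (p.isPrime.mem_or_mem h).elim u.2 t.2, u * v' * s, by linear_combination hu⟩
        obtain ⟨t, ht, hta⟩ := hr _ hw.1
        obtain ⟨t', ht', htb⟩ := hr _ hw.2
        have hm : t * t' * r ∈ I := ⟨Ideal.mem_span_singleton.2 (hta.trans ⟨t', by ring⟩),
          Ideal.mem_span_singleton.2 (htb.trans ⟨t, by ring⟩)⟩
        have hu : IsUnit (algebraMap A L (t * t' * s)) := IsLocalization.map_units L
          (⟨t * t' * s, fun h => (p.isPrime.mem_or_mem h).elim (fun h => (p.isPrime.mem_or_mem h).elim ht ht') s.2⟩ : p.asIdeal.primeCompl)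
        refine (Ideal.unit_mul_mem_iff_mem _ hu).1 ?_
        have : algebraMap A L (t * t' * s) * w = algebraMap A L (t * t' * r) := by
          simp only [map_mul, ← hrs]; ring
        rw [this]
        exact Ideal.mem_map_of_mem _ hm
    obtain ⟨w, hw⟩ := (hmap ▸ RegUFD.inf_principal_of_ufd (R := L) _ _ : (I.map (algebraMap A L)).IsPrincipal).principal
    obtain ⟨⟨g, s⟩, hgs⟩ := (IsLocalization.mem_map_algebraMap_iff p.asIdeal.primeCompl L).1
      (show w ∈ I.map (algebraMap A L) from hw ▸ Submodule.mem_span_singleton_self w)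
    simp only at hgs
    have hdiv : ∀ z ∈ I, ∃ t ∉ p.asIdeal, (g : A) ∣ t * z := fun z hz => by
      obtain ⟨c, hc⟩ := Submodule.mem_span_singleton.1 (hw ▸ Ideal.mem_map_of_mem (algebraMap A L) hz)
      obtain ⟨⟨c', t⟩, hc'⟩ := IsLocalization.surj p.asIdeal.primeCompl c
      simp only [smul_eq_mul] at hc hc'
      obtain ⟨u, hu⟩ := (IsLocalization.eq_iff_exists p.asIdeal.primeCompl L (x := s * t * z) (y := g * c')).1 (by
        simp only [map_mul]; rw [← hc, ← hgs, ← hc']; ring)
      exact ⟨u * (s * t), fun h => (p.isPrime.mem_or_mem h).elim u.2 fun h => (p.isPrime.mem_or_mem h).elim s.2 t.2,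
        u * c', by linear_combination hu⟩
    obtain ⟨S, hS⟩ : I.FG := IsNoetherian.noetherian I
    have hSI : ∀ z ∈ S, z ∈ I := fun z hz => hS ▸ Ideal.subset_span hz
    choose t ht hdt using fun z : S => hdiv z (hSI z z.2)
    obtain ⟨m, hm, hmp⟩ : ∃ m ∈ IsLocalRing.maximalIdeal A, m ∉ p.asIdeal := by
      by_contra! hall
      exact hp (PrimeSpectrum.ext ((IsLocalRing.le_maximalIdeal p.isPrime.ne_top).antisymm hall))
    refine ⟨m * ∏ z, t z, g, fun h => (p.isPrime.mem_or_mem h).elim hmp fun h => ?_, fun h0 => ?_, ?_, ?_⟩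
    · obtain ⟨z, -, hz⟩ := (p.isPrime.prod_mem_iff).1 h
      exact ht z hz
    · obtain ⟨u, hu, hud⟩ := hdiv _ hab
      rw [h0, zero_dvd_iff] at hud
      exact hu ((mul_eq_zero.1 hud).resolve_right (mul_ne_zero ha₀ hb₀) ▸ p.asIdeal.zero_mem)
    · intro x hx he
      refine hx ?_
      subst he
      exact Ideal.mul_mem_right _ _ hm
    · intro z hz
      rw [← hS] at hz
      induction hz using Submodule.span_induction with
      | mem x hx =>
        obtain ⟨w', hw'⟩ := hdt ⟨x, hx⟩
        rw [← Finset.prod_erase_mul _ _ (Finset.mem_univ (⟨x, hx⟩ : S))]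
        exact ⟨m * (∏ z ∈ Finset.univ.erase ⟨x, hx⟩, t z) * w', by linear_combination (m * ∏ z ∈ Finset.univ.erase (⟨x, hx⟩ : S), t z) * hw'⟩
      | zero => simp
      | add x y _ _ hx hy => rw [mul_add]; exact dvd_add hx hy
      | smul c x _ hx => rw [smul_eq_mul, mul_left_comm]; exact dvd_mul_of_dvd_right hx c
  choose f g hfp hg0 hfU hgen using key
  -- the invertible module
  have hL : PicF.IsInvertible (M.restrict U.ι) := by
    refine ParaFLib.isInvertible_of_local fun x => ?_
    let D : (P).Opens := PrimeSpectrum.basicOpen (f x.1 x.2)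
    obtain ⟨i⟩ := nonempty_iso_of_isFrame (isFrame_sec (hg0 x.1 x.2) (hgen x.1 x.2))
    have hx : (x.1 : P) ∈ D := hfp x.1 x.2
    have e : D.ι = (Spec (CommRingCat.of A)).homOfLE (hfU x.1 x.2) ≫ U.ι := (Scheme.homOfLE_ι _ _).symm
    refine ⟨D.toScheme, (Spec (CommRingCat.of A)).homOfLE (hfU x.1 x.2), inferInstance, ⟨x.1, hx⟩, Subtype.ext ?_, ?_⟩
    · show (((Spec (CommRingCat.of A)).homOfLE (hfU x.1 x.2)) ⟨x.1, hx⟩).1 = x.1
      simp
    refine TensorMod.isInvertible_of_iso (L := Coh.structureModule D.toScheme) ?_ fun y => ⟨⊤, trivial,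
      ⟨Scheme.Modules.restrictUnitIso (⊤ : D.toScheme.Opens).ι⟩⟩
    exact i.symm ≪≫ (Scheme.Modules.restrictFunctorCongr e).app M ≪≫
      (Scheme.Modules.restrictFunctorComp _ U.ι).app M
  obtain ⟨iL⟩ := hpic _ hL
  obtain ⟨e, he⟩ := exists_isFrame_of_triv iL
  obtain ⟨a, ha⟩ := (ores_punctured_bijective hd).2 ((idealHom A I).app U e)
  obtain ⟨a, rfl⟩ := (Scheme.ΓSpecIso (CommRingCat.of A)).commRingCatIsoToRingEquiv.symm.surjective a
  have ha' : glo U a = (idealHom A I).app U e := ha
  have hloc : ∀ p (hp : p ≠ IsLocalRing.closedPoint A),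
      (∃ s ∉ p.asIdeal, s * a ∈ I) ∧ ∃ s ∉ p.asIdeal, a ∣ s * (g p hp : A) := by
    intro p hp
    set D : (P).Opens := PrimeSpectrum.basicOpen (f p hp)
    have hf0 : f p hp ≠ 0 := fun h => hfp p hp (h ▸ Ideal.zero_mem _)
    have happ : (idealHom A I).app D (mres M (hfU p hp) e) = glo D a := by
      rw [← ores_glo (hfU p hp) a, ha']
      exact (GenLocus.app_mres (idealHom A I) (hfU p hp) e).symm
    constructor
    · obtain ⟨t, ht⟩ := (isFrame_sec (hg0 p hp) (hgen p hp)).bijective.2 (mres M (hfU p hp) e)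
      obtain ⟨r, n, hr⟩ := exists_glo_mul _ t
      refine ⟨f p hp ^ n, fun h => hfp p hp (p.isPrime.mem_of_pow_mem _ h), ?_⟩
      have h2 := congrArg ((idealHom A I).app D) ht
      simp only at h2
      rw [Scheme.Modules.Hom.app_smul, idealHom_sec, happ] at h2
      have : f p hp ^ n * a = r * g p hp := glo_injective (basicOpen_nonempty hf0) (by
        rw [glo_mul, glo_mul, ← h2, ← hr]
        show glo D _ * (t * glo D _) = t * glo D _ * glo D _
        ring)
      rw [this]
      exact Ideal.mul_mem_left _ _ (g p hp).2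
    · obtain ⟨t, ht⟩ := (he.res (hfU p hp)).bijective.2 (sec D (g p hp))
      obtain ⟨r, n, hr⟩ := exists_glo_mul _ t
      refine ⟨f p hp ^ n, fun h => hfp p hp (p.isPrime.mem_of_pow_mem _ h), r, ?_⟩
      have h2 := congrArg ((idealHom A I).app D) ht
      simp only at h2
      rw [Scheme.Modules.Hom.app_smul, idealHom_sec, happ] at h2
      refine glo_injective (basicOpen_nonempty hf0) ?_
      rw [glo_mul, glo_mul, ← h2, ← hr]
      show glo D _ * (t * glo D _) = glo D _ * (t * glo D _)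
      ring
  have hpair := exists_regular_pair hd
  obtain ⟨p₁, hp₁⟩ : ∃ p : PrimeSpectrum A, p ≠ IsLocalRing.closedPoint A := by
    obtain ⟨x, y, hx, -, hx0, -⟩ := hpair
    refine ⟨⟨⊥, Ideal.bot_prime⟩, fun h => hx0 ?_⟩
    have h' : (⊥ : Ideal A) = IsLocalRing.maximalIdeal A := congrArg PrimeSpectrum.asIdeal h
    exact Ideal.mem_bot.1 (h'.symm ▸ hx)
  have ha0 : a ≠ 0 := by
    rintro rfl
    obtain ⟨s, hs, hsg⟩ := (hloc p₁ hp₁).2
    rw [zero_dvd_iff] at hsg
    rcases mul_eq_zero.1 hsg with h | h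
    · exact hs (h ▸ Ideal.zero_mem _)
    · exact hg0 _ _ h
  have haI : a ∈ I := by
    refine ⟨Ideal.mem_span_singleton.2 ?_, Ideal.mem_span_singleton.2 ?_⟩
    · refine dvd_of_punctured hpair ha₀ fun p hp => ?_
      obtain ⟨s, hs, hsa⟩ := (hloc p hp).1
      exact ⟨s, hs, Ideal.mem_span_singleton.1 hsa.1⟩
    · refine dvd_of_punctured hpair hb₀ fun p hp => ?_
      obtain ⟨s, hs, hsa⟩ := (hloc p hp).1
      exact ⟨s, hs, Ideal.mem_span_singleton.1 hsa.2⟩
  refine ⟨⟨a, le_antisymm (fun z hz => ?_) ((Submodule.span_singleton_le_iff_mem _ _).2 haI)⟩⟩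
  refine Ideal.mem_span_singleton.2 (dvd_of_punctured hpair ha0 fun p hp => ?_)
  obtain ⟨s, hs, hsg⟩ := (hloc p hp).2
  refine ⟨s * f p hp, fun h => (p.isPrime.mem_or_mem h).elim hs (hfp p hp), hsg.trans ?_⟩
  rw [mul_assoc]
  exact mul_dvd_mul_left s (hgen p hp z hz)

omit [IsNoetherianRing A] in
/-- A factorial ring has factorial local rings. -/
theorem ufd_stalk [UniqueFactorizationMonoid A] (y : ↥(Spec (CommRingCat.of A))) :
    IsDomain ((Spec (CommRingCat.of A)).presheaf.stalk y) ∧
      UniqueFactorizationMonoid ((Spec (CommRingCat.of A)).presheaf.stalk y) := by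
  let S := (Spec.structureSheaf A).presheaf.stalk (y : PrimeSpectrum A)
  haveI : IsDomain S := IsLocalization.isDomain_of_le_nonZeroDivisors (R := A) (S := S) (M := (y : PrimeSpectrum A).asIdeal.primeCompl)
    (Ideal.primeCompl_le_nonZeroDivisors _)
  exact ⟨(inferInstance : IsDomain S), GrassLib.ufd_of_isLocalization (y : PrimeSpectrum A).asIdeal.primeCompl S⟩

omit [IsLocalRing A] [IsNoetherianRing A] [IsDomain A] in
theorem isDomain_atPrime (y : PrimeSpectrum A)
    [IsDomain ((Spec (CommRingCat.of A)).presheaf.stalk y)] :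
    IsDomain (Localization.AtPrime y.asIdeal) :=
  ((IsLocalization.algEquiv y.asIdeal.primeCompl (Localization.AtPrime y.asIdeal)
    ((Spec.structureSheaf A).presheaf.stalk y)).toRingEquiv.toMulEquiv.isDomain_iff).2
      (inferInstanceAs (IsDomain ((Spec (CommRingCat.of A)).presheaf.stalk y)))

omit [IsLocalRing A] [IsNoetherianRing A] [IsDomain A] in
theorem ufd_atPrime (y : PrimeSpectrum A)
    (h : UniqueFactorizationMonoid ((Spec (CommRingCat.of A)).presheaf.stalk y)) :
    UniqueFactorizationMonoid (Localization.AtPrime y.asIdeal) :=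
  (IsLocalization.algEquiv y.asIdeal.primeCompl (Localization.AtPrime y.asIdeal)
    ((Spec.structureSheaf A).presheaf.stalk y)).toRingEquiv.toMulEquiv.symm.uniqueFactorizationMonoid h

end Groth.Agent.ParaFUFD
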