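import Groth.Agent.ParaFLib.Pair
import Mathlib

/-!
# Line bundles and functions on open subschemes of the spectrum of a factorial ring
-/

set_option autoImplicit false
set_option backward.isDefEq.respectTransparency false
set_option backward.isDefEq.respectTransparency.types false
set_option linter.style.haveILetI false

noncomputable section

universe u

open CategoryTheory AlgebraicGeometry TopologicalSpace Opposite
open Groth.Agent.QCohBase Groth.Agent.GenLocus

namespace Groth.Agent.ParaFUFD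

variable {A : Type u} [CommRing A]

local notation "P" => Spec (CommRingCat.of A)

/-- an element of the ring as a function on an open -/
def glo (W : (Spec (CommRingCat.of A)).Opens) (r : A) : Γ(Spec (CommRingCat.of A), W) :=
  ores le_top ((Scheme.ΓSpecIso (CommRingCat.of A)).inv r)

theorem glo_mul (W : (P).Opens) (r s : A) : glo W (r * s) = glo W r * glo W s := by
  simp [glo]

theorem ores_glo {W W' : (P).Opens} (h : W' ≤ W) (r : A) : ores h (glo W r) = glo W' r :=
  ores_ores _ _ _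

theorem mem_basicOpen_glo {W : (P).Opens} (r : A) {x : P} (hx : x ∈ W) :
    x ∈ (Spec (CommRingCat.of A)).basicOpen (glo W r) ↔ r ∉ x.asIdeal := by
  rw [glo, Scheme.basicOpen_res, basicOpen_eq_of_affine]
  exact ⟨fun h => h.2, fun h => ⟨hx, h⟩⟩

theorem isUnit_glo_iff (W : (P).Opens) (r : A) :
    IsUnit (glo W r) ↔ ∀ x ∈ W, r ∉ x.asIdeal := by
  constructor
  · intro h x hx
    exact (mem_basicOpen_glo r hx).1 (by rw [Scheme.basicOpen_of_isUnit _ h]; exact hx)
  · intro h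
    refine RingedSpace.isUnit_of_isUnit_germ (Spec (CommRingCat.of A)).toRingedSpace W _ fun x hx => ?_
    exact ((Spec (CommRingCat.of A)).mem_basicOpen (glo W r) x hx).1 ((mem_basicOpen_glo r hx).2 (h x hx))

variable [IsDomain A]

theorem ores_injective {W W' : (P).Opens} (h : W' ≤ W) (hne : (W' : Set P).Nonempty) :
    Function.Injective (ores h) := by
  haveI : Nonempty W' := ⟨⟨_, hne.some_mem⟩⟩
  exact map_injective_of_isIntegral _ (homOfLE h)

theorem glo_injective {W : (P).Opens} (hne : (W : Set P).Nonempty) : Function.Injective (glo (A := A) W) :=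
  (ores_injective le_top hne).comp (Scheme.ΓSpecIso (CommRingCat.of A)).commRingCatIsoToRingEquiv.symm.injective

theorem mres_bot_ext {X : Scheme.{u}} (M : X.Modules) {W : X.Opens} (hW : ¬ (W : Set X).Nonempty) (a b : Γ(M, W)) :
    a = b := by
  refine TopCat.Sheaf.eq_of_locally_eq' ⟨M.presheaf, M.isSheaf⟩ (fun i : PEmpty.{u + 1} => PEmpty.elim i) W
    (fun i => PEmpty.elim i) (fun x hx => (hW ⟨x, hx⟩).elim) a b fun i => PEmpty.elim i

variable [UniqueFactorizationMonoid A]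

/-- A function on an open is a reduced fraction, whose denominator is invertible there. -/
theorem exists_fraction {W : (P).Opens} (hne : (W : Set P).Nonempty) (u : Γ(P, W)) :
    ∃ r s : A, s ≠ 0 ∧ IsRelPrime r s ∧ u * glo W s = glo W r := by
  obtain ⟨x, hx⟩ := hne
  obtain ⟨_, ⟨f, rfl⟩, hxf, hfW⟩ := PrimeSpectrum.isTopologicalBasis_basic_opens.exists_subset_of_mem_open hx W.2
  set D : (P).Opens := PrimeSpectrum.basicOpen f
  have hD : D ≤ W := hfW
  have hf0 : f ≠ 0 := fun h => hxf (h ▸ Ideal.zero_mem _)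
  letI : Algebra A Γ(P, D) := (StructureSheaf.openAlgebra (R := A) (op D))
  haveI : IsLocalization.Away f Γ(P, D) := inferInstanceAs (IsLocalization.Away f ((Spec.structureSheaf A).presheaf.obj (op (PrimeSpectrum.basicOpen f))))
  obtain ⟨⟨r₀, ⟨_, n, rfl⟩⟩, hr⟩ := IsLocalization.surj (Submonoid.powers f) (ores hD u)
  have halg : ∀ z : A, algebraMap A Γ(P, D) z = glo D z := fun z => rfl
  simp only [halg] at hr
  obtain ⟨r, s, c, hrs, hc₁, hc₂⟩ := UniqueFactorizationMonoid.exists_reduced_factors' r₀ (f ^ n) (pow_ne_zero n hf0)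
  have hc : c ≠ 0 := fun h => pow_ne_zero n hf0 (by rw [← hc₂, h, zero_mul])
  refine ⟨r, s, fun h => pow_ne_zero n hf0 (by rw [← hc₂, h, mul_zero]), hrs, ?_⟩
  refine ores_injective hD ⟨x, hxf⟩ ?_
  rw [map_mul, ores_glo, ores_glo]
  haveI : Nonempty D := ⟨⟨x, hxf⟩⟩
  refine mul_left_cancel₀ (fun h => hc (glo_injective ⟨x, hxf⟩ (h.trans (by simp [glo]) : glo D c = glo D 0))) ?_
  rw [← mul_assoc, mul_comm (glo D c), mul_assoc, ← glo_mul, ← glo_mul, hc₁, hc₂]
  exact hr

omit [UniqueFactorizationMonoid A] in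
/-- the point cut out by a prime element below a given point is in every open containing it -/
theorem prime_point {x : P} {π : A} (hπ : Prime π) (hx : π ∈ x.asIdeal) {W : (P).Opens} (hW : x ∈ W) :
    ∃ y : P, y ∈ W ∧ y.asIdeal = Ideal.span {π} := by
  let y : PrimeSpectrum A := ⟨Ideal.span {π}, (Ideal.span_singleton_prime hπ.ne_zero).2 hπ⟩
  refine ⟨y, Specializes.mem_open (y := x) ?_ W.2 hW, rfl⟩
  exact (PrimeSpectrum.le_iff_specializes y x).1 (show y.asIdeal ≤ x.asIdeal from (Ideal.span_singleton_le_iff_mem _).2 hx)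

omit [UniqueFactorizationMonoid A] in
/-- at a point, numerator and denominator of a unit vanish together -/
theorem mem_iff_of_unit {W : (P).Opens} {u : Γ(P, W)} (hu : IsUnit u) {r s : A} (h : u * glo W s = glo W r)
    {x : P} (hx : x ∈ W) : r ∈ x.asIdeal ↔ s ∈ x.asIdeal := by
  rw [← not_iff_not, ← mem_basicOpen_glo r hx, ← mem_basicOpen_glo s hx, ← h, Scheme.basicOpen_mul,
    Scheme.basicOpen_of_isUnit _ hu]
  exact ⟨fun h => h.2, fun h => ⟨hx, h⟩⟩

/-- splitting off the primes dividing `g` -/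
theorem exists_split (g : A) : ∀ r : A, r ≠ 0 → ∃ r₁ r₂ : A, r = r₁ * r₂ ∧
    (∀ p, Prime p → p ∣ r₁ → ¬ p ∣ g) ∧ ∃ N, r₂ ∣ g ^ N := by
  intro r
  refine UniqueFactorizationMonoid.induction_on_prime r ?_ ?_ ?_
  · exact fun h => absurd rfl h
  · intro a ha _
    exact ⟨a, 1, (mul_one a).symm, fun p hp hpa => absurd (isUnit_of_dvd_unit hpa ha) hp.not_isUnit, 0, one_dvd _⟩
  · intro a p ha hp ih _
    obtain ⟨r₁, r₂, rfl, h1, N, hN⟩ := ih ha
    by_cases hpg : p ∣ g
    · exact ⟨r₁, p * r₂, by ring, h1, N + 1, by rw [pow_succ']; exact mul_dvd_mul hpg hN⟩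
    · refine ⟨p * r₁, r₂, by ring, fun q hq hdvd => ?_, N, hN⟩
      rcases hq.dvd_or_dvd hdvd with h | h
      · exact fun hg => hpg ((hq.associated_of_dvd hp h).symm.dvd.trans hg)
      · exact h1 q hq h

/-- Two frames, one on an open and one on a basic open, give a frame on the union. -/
theorem frame_sup (M : (P).Modules) {W W' : (P).Opens} (g : A) (hW' : ∀ x, x ∈ W' ↔ g ∉ x.asIdeal)
    {e : Γ(M, W)} (he : IsFrame M e) {e' : Γ(M, W')} (he' : IsFrame M e') :
    ∃ E : Γ(M, W ⊔ W'), IsFrame M E := by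
  classical
  have glue : ∀ (a : Γ(M, W)) (b : Γ(M, W')), IsFrame M a → IsFrame M b →
      mres M (inf_le_left : W ⊓ W' ≤ W) a = mres M inf_le_right b → ∃ E : Γ(M, W ⊔ W'), IsFrame M E := by
    intro a b ha hb hab
    let O : ULift.{u} Bool → (P).Opens := fun i => cond i.down W W'
    let s : ∀ i, Γ(M, O i) := fun i => match i with | ⟨true⟩ => a | ⟨false⟩ => b
    have hle : ∀ i, O i ≤ W ⊔ W' := fun i => by rcases i with ⟨_ | _⟩ <;> simp [O]
    have hcov : W ⊔ W' ≤ iSup O :=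
      sup_le (le_iSup_of_le ⟨true⟩ le_rfl) (le_iSup_of_le ⟨false⟩ le_rfl)
    obtain ⟨E, hE, -⟩ := TopCat.Sheaf.existsUnique_gluing' ⟨M.presheaf, M.isSheaf⟩ O (W ⊔ W')
      (fun i => homOfLE (hle i)) hcov s (by
        rintro ⟨_ | _⟩ ⟨_ | _⟩
        · rfl
        · show mres M (inf_le_left : W' ⊓ W ≤ W') b = mres M (inf_le_right : W' ⊓ W ≤ W) a
          have := congrArg (mres M (le_of_eq (inf_comm W' W))) hab
          simp only [mres_mres] at this
          exact this.symm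
        · exact hab
        · rfl)
    refine ⟨E, IsFrame.of_cover O hle hcov fun i => ?_⟩
    rw [show mres M (hle i) E = s i from hE i]
    rcases i with ⟨_ | _⟩
    · exact hb
    · exact ha
  set I := W ⊓ W'
  by_cases hne : (I : Set P).Nonempty
  swap
  · exact glue e e' he he' (mres_bot_ext M hne _ _)
  obtain ⟨u, hu⟩ := ((he.res (inf_le_left : I ≤ W)).bijective).2 (mres M (inf_le_right : I ≤ W') e')
  simp only at hu
  have hu1 : IsUnit u := (he.res (inf_le_left : I ≤ W)).isUnit_of_smul (hu ▸ he'.res inf_le_right)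
  obtain ⟨r, s, hs0, hrs, hus⟩ := exists_fraction hne u
  have hr0 : r ≠ 0 := fun h => by
    obtain ⟨x, hx⟩ := hne
    have := mem_iff_of_unit hu1 hus hx
    rw [h] at this
    have hs := this.1 (Ideal.zero_mem _)
    have hgen : (⟨⊥, Ideal.bot_prime⟩ : PrimeSpectrum A) ∈ I :=
      Specializes.mem_open (y := x) ((PrimeSpectrum.le_iff_specializes _ _).1 (show (⊥ : Ideal A) ≤ x.asIdeal from bot_le)) I.2 hx
    have h2 := (mem_iff_of_unit hu1 hus (x := (⟨⊥, Ideal.bot_prime⟩ : PrimeSpectrum A)) hgen).1 (h ▸ Ideal.zero_mem _)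
    exact hs0 ((Ideal.mem_bot).1 h2)
  obtain ⟨r₁, r₂, rfl, hr₁, N, hr₂⟩ := exists_split g r hr0
  obtain ⟨s₁, s₂, rfl, hs₁, N', hs₂⟩ := exists_split g s hs0
  have u2 : ∀ {z : A} {K : ℕ}, z ∣ g ^ K → IsUnit (glo W' z) := fun hz => (isUnit_glo_iff W' _).2 fun x hx hzx =>
    (hW' x).1 hx (x.isPrime.mem_of_pow_mem _ (Ideal.mem_of_dvd _ hz hzx))
  have u1 : ∀ {z : A}, z ≠ 0 → (∀ p, Prime p → p ∣ z → ¬ p ∣ g ∧
      ((p ∣ r₁ * r₂ ∧ ¬ p ∣ s₁ * s₂) ∨ (p ∣ s₁ * s₂ ∧ ¬ p ∣ r₁ * r₂))) → IsUnit (glo W z) := by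
    intro z hz0 hz
    refine (isUnit_glo_iff W z).2 fun x hx hzx => ?_
    obtain ⟨f, hf, hprod⟩ := UniqueFactorizationMonoid.exists_prime_factors z hz0
    obtain ⟨w, hw⟩ := hprod
    have hmem : f.prod ∈ x.asIdeal := by
      rw [← hw] at hzx
      exact (Ideal.mul_unit_mem_iff_mem _ w.isUnit).1 hzx
    obtain ⟨p, hpf, hpx⟩ : ∃ p ∈ f, p ∈ x.asIdeal := by
      have key : ∀ m : Multiset A, m.prod ∈ x.asIdeal → ∃ p ∈ m, p ∈ x.asIdeal := by
        intro m
        induction m using Multiset.induction_on with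
        | empty => intro h; exact absurd ((Ideal.eq_top_iff_one _).2 (by simpa using h)) x.isPrime.ne_top
        | cons a m ih =>
          intro h
          rw [Multiset.prod_cons] at h
          rcases x.isPrime.mem_or_mem h with h | h
          · exact ⟨a, Multiset.mem_cons_self a m, h⟩
          · obtain ⟨p, hp, hpx⟩ := ih h; exact ⟨p, Multiset.mem_cons_of_mem hp, hpx⟩
      exact key f hmem
    have hp : Prime p := hf p hpf
    obtain ⟨hpg, hd⟩ := hz p hp (hw ▸ dvd_mul_of_dvd_left (Multiset.dvd_prod hpf) _)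
    obtain ⟨y, hyW, hy⟩ := prime_point hp hpx hx
    have hyI : y ∈ I := ⟨hyW, (hW' y).2 (by rw [hy, Ideal.mem_span_singleton]; exact hpg)⟩
    have := mem_iff_of_unit hu1 hus hyI
    rw [hy, Ideal.mem_span_singleton, Ideal.mem_span_singleton] at this
    rcases hd with ⟨a, b⟩ | ⟨a, b⟩
    · exact b (this.1 a)
    · exact b (this.2 a)
  have hr₁u : IsUnit (glo W r₁) := u1 (left_ne_zero_of_mul hr0) fun p hp hd =>
    ⟨hr₁ p hp hd, Or.inl ⟨hd.mul_right r₂, fun h => hp.not_isUnit (hrs (hd.mul_right r₂) h)⟩⟩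
  have hs₁u : IsUnit (glo W s₁) := u1 (left_ne_zero_of_mul hs0) fun p hp hd =>
    ⟨hs₁ p hp hd, Or.inr ⟨hd.mul_right s₂, fun h => hp.not_isUnit (hrs h (hd.mul_right s₂))⟩⟩
  have hr₂u : IsUnit (glo W' r₂) := u2 hr₂
  have hs₂u : IsUnit (glo W' s₂) := u2 hs₂
  obtain ⟨v₁, hv₁⟩ := hs₁u.exists_right_inv
  obtain ⟨v₂, hv₂⟩ := hr₂u.exists_right_inv
  refine glue ((glo W r₁ * v₁) • e) ((glo W' s₂ * v₂) • e')
    (he.smul_unit (hr₁u.mul (IsUnit.of_mul_eq_one_right _ hv₁)))
    (he'.smul_unit (hs₂u.mul (IsUnit.of_mul_eq_one_right _ hv₂))) ?_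
  rw [mres_smul, mres_smul, ← hu, smul_smul]
  congr 1
  have e1 := congrArg (ores (inf_le_left : I ≤ W)) hv₁
  have e2 := congrArg (ores (inf_le_right : I ≤ W')) hv₂
  simp only [map_mul, map_one, ores_glo] at e1 e2 ⊢
  rw [glo_mul, glo_mul] at hus
  linear_combination (-(ores (inf_le_left : I ≤ W) v₁) * ores (inf_le_right : I ≤ W') v₂) * hus
    + (ores (inf_le_right : I ≤ W') v₂ * glo I s₂ * u) * e1
    - (ores (inf_le_left : I ≤ W) v₁ * glo I r₁) * e2

omit [IsDomain A] [UniqueFactorizationMonoid A] in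
/-- A frame trivialises the restriction. -/
theorem nonempty_iso_of_isFrame {M : (P).Modules} {U : (P).Opens} {a : Γ(M, U)} (ha : IsFrame M a) :
    Nonempty (M.restrict U.ι ≅ Coh.structureModule (U : Scheme.{u})) := by
  let f := homOfSection (M.restrict U.ι) ((M.restrictAppIso U.ι ⊤).inv (QCohBase.mres M U.ι_image_top.le a))
  have hf : IsIso f := by
    rw [Scheme.Modules.Hom.isIso_iff_isIso_app]
    intro W
    rw [ConcreteCategory.isIso_iff_bijective]
    have hW : U.ι ''ᵁ W ≤ U := (U.ι.image_le_opensRange W).trans_eq U.opensRange_ι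
    have key : ∀ c : Γ(U.toScheme, W), (M.restrictAppIso U.ι W).hom (f.app W c) =
        (U.ι.appIso W).inv c • QCohBase.mres M hW a := fun c ↦ by
      have e : f.app W c = c • QCohBase.mres (M.restrict U.ι) (le_top : W ≤ ⊤)
          ((M.restrictAppIso U.ι ⊤).inv (QCohBase.mres M U.ι_image_top.le a)) :=
        (app_eq_smul f W c).trans (congrArg (c • ·) (sect_homOfSection _ _ _))
      rw [e, Scheme.Modules.smul_restrictAppIso_hom_apply]
      congr 1
      refine Eq.trans (b := QCohBase.mres M (U.ι.image_mono (le_top : W ≤ ⊤)) (QCohBase.mres M U.ι_image_top.le a)) rfl ?_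
      rw [mres_mres]
    refine ((ConcreteCategory.isIso_iff_bijective (M.restrictAppIso U.ι W).hom).mp inferInstance).1.of_comp_iff
      (f.app W) |>.mp ?_ |> fun hi ↦ ⟨hi, fun y ↦ ?_⟩
    · rw [show ⇑(M.restrictAppIso U.ι W).hom ∘ ⇑(f.app W) =
        (fun r ↦ r • QCohBase.mres M hW a) ∘ ⇑(U.ι.appIso W).inv from funext key]
      exact (ha _ hW).1.comp ((ConcreteCategory.isIso_iff_bijective (U.ι.appIso W).inv).mp inferInstance).1
    · obtain ⟨r, hr⟩ := (ha _ hW).2 ((M.restrictAppIso U.ι W).hom y)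
      obtain ⟨c, rfl⟩ := ((ConcreteCategory.isIso_iff_bijective (U.ι.appIso W).inv).mp inferInstance).2 r
      exact ⟨c, ((ConcreteCategory.isIso_iff_bijective (M.restrictAppIso U.ι W).hom).mp inferInstance).1
        ((key c).trans hr)⟩
  exact ⟨(asIso f).symm⟩

/-- Line bundles on open subschemes of the spectrum of a Noetherian factorial ring are trivial. -/
theorem picTrivial [IsNoetherianRing A] (U : (P).Opens) : ParaF.PicTrivial (U : Scheme.{u}) := by
  classical
  intro L hL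
  let M := (Scheme.Modules.pushforward U.ι).obj L
  let eL : M.restrict U.ι ≅ L := asIso ((Scheme.Modules.restrictAdjunction U.ι).counit.app L)
  have key : ∀ x : U, ∃ g : A, g ∉ x.1.asIdeal ∧ (PrimeSpectrum.basicOpen g : (P).Opens) ≤ U ∧
      ∃ e : Γ(M, (PrimeSpectrum.basicOpen g : (P).Opens)), IsFrame M e := by
    intro x
    obtain ⟨V, hxV, ⟨t⟩⟩ := (TensorMod.isInvertible_of_iso eL.symm hL) x
    let e := U.ι.isoImage V
    have ht : M.restrict (U.ι ''ᵁ V).ι ≅ Coh.structureModule ((U.ι ''ᵁ V : (P).Opens) : Scheme.{u}) := by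
      refine (Scheme.Modules.restrictFunctorCongr (show (U.ι ''ᵁ V).ι = e.inv ≫ V.ι ≫ U.ι by
        rw [← cancel_epi e.hom, Iso.hom_inv_id_assoc]; exact U.ι.isoImage_hom_ι V)).app M ≪≫ ?_
      refine (Scheme.Modules.restrictFunctorComp e.inv (V.ι ≫ U.ι)).app M ≪≫
        (Scheme.Modules.restrictFunctor e.inv).mapIso ?_ ≪≫ Scheme.Modules.restrictUnitIso e.inv
      exact (Scheme.Modules.restrictFunctorComp V.ι U.ι).app M ≪≫ t
    obtain ⟨e₀, he₀⟩ := exists_isFrame_of_triv ht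
    obtain ⟨_, ⟨g, rfl⟩, hxg, hg⟩ := PrimeSpectrum.isTopologicalBasis_basic_opens.exists_subset_of_mem_open
      (show x.1 ∈ ((U.ι ''ᵁ V : (P).Opens) : Set P) from ⟨x, hxV, rfl⟩) (U.ι ''ᵁ V).2
    exact ⟨g, hxg, fun y hy => by obtain ⟨z, -, rfl⟩ := hg hy; exact z.2, _, he₀.res hg⟩
  choose g hxg hgU e he using key
  obtain ⟨T, hT⟩ := (NoetherianSpace.isCompact (U : Set P)).elim_finite_subcover
    (ι := U) (fun x => SetLike.coe (PrimeSpectrum.basicOpen (g x))) (fun x => (PrimeSpectrum.basicOpen (g x)).2)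
    (fun y hy => Set.mem_iUnion.2 ⟨⟨y, hy⟩, hxg ⟨y, hy⟩⟩)
  have hU : U = T.sup (fun x => (PrimeSpectrum.basicOpen (g x) : (P).Opens)) := by
    refine le_antisymm (fun y hy => ?_) (Finset.sup_le fun x _ => hgU x)
    obtain ⟨x, hx, hxy⟩ := Set.mem_iUnion₂.1 (hT hy)
    exact (Finset.le_sup (f := fun x => (PrimeSpectrum.basicOpen (g x) : (P).Opens)) hx) hxy
  have ind : ∀ S : Finset U, ∃ E : Γ(M, S.sup (fun x => (PrimeSpectrum.basicOpen (g x) : (P).Opens))), IsFrame M E := by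
    intro S
    induction S using Finset.induction_on with
    | empty =>
      rw [Finset.sup_empty]
      refine ⟨0, fun V hV => ⟨fun a b _ => ?_, fun a => ⟨0, mres_bot_ext M (fun ⟨y, hy⟩ => (hV hy).elim) _ _⟩⟩⟩
      exact mres_bot_ext (Coh.structureModule (Spec (CommRingCat.of A))) (fun ⟨y, hy⟩ => (hV hy).elim) a b
    | insert x S _ ih =>
      rw [Finset.sup_insert, sup_comm]
      obtain ⟨E, hE⟩ := ih
      exact frame_sup M (g x) (fun y => Iff.rfl) hE (he x)
  have tr : ∀ W : (P).Opens, U = W → (∃ E : Γ(M, W), IsFrame M E) → ∃ E : Γ(M, U), IsFrame M E := by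
    rintro W rfl h; exact h
  obtain ⟨E, hE⟩ := tr _ hU (ind T)
  obtain ⟨i⟩ := nonempty_iso_of_isFrame hE
  exact ⟨eL.symm ≪≫ i⟩

/-- Functions extend across a closed set containing no prime element. -/
theorem oext {D : (P).Opens} (hD : (D : Set P).Nonempty) (h : ∀ π : A, Prime π → ∃ y ∈ D, y.asIdeal = Ideal.span {π}) :
    ParaFLib.OExt D ⊤ := by
  have hne : (((⊤ : (P).Opens) ⊓ D : (P).Opens) : Set P).Nonempty := ⟨hD.some, trivial, hD.some_mem⟩
  refine ⟨ores_injective _ hne, fun u => ?_⟩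
  obtain ⟨r, s, hs0, hrs, hus⟩ := exists_fraction hne u
  have hs : IsUnit s := by
    by_contra hs
    obtain ⟨π, hπ, hdvd⟩ := WfDvdMonoid.exists_irreducible_factor hs hs0
    obtain ⟨y, hyD, hy⟩ := h π hπ.prime
    have hyI : y ∈ (⊤ : (P).Opens) ⊓ D := ⟨trivial, hyD⟩
    have hr : r ∈ y.asIdeal := by
      by_contra hr
      have h1 := (mem_basicOpen_glo r hyI).2 hr
      rw [← hus, Scheme.basicOpen_mul] at h1
      exact (mem_basicOpen_glo s hyI).1 h1.2 (hy ▸ Ideal.mem_span_singleton.2 hdvd)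
    rw [hy, Ideal.mem_span_singleton] at hr
    exact hπ.not_isUnit (hrs hr hdvd)
  obtain ⟨t, ht⟩ := hs.exists_right_inv
  refine ⟨glo ⊤ (r * t), ?_⟩
  rw [ores_glo, glo_mul, ← hus, mul_assoc, ← glo_mul, ht]
  simp [glo]

end Groth.Agent.ParaFUFD
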