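import Groth.Agent.ParaFUFD.Pic
import Groth.Agent.RegUFD.Basic
import Groth.Agent.FEtLib.Depth2
import Groth.Agent.SerreLift.Basic

/-!
# Factoriality of a local ring through its punctured spectrum
-/

set_option autoImplicit false
set_option backward.isDefEq.respectTransparency false
set_option backward.isDefEq.respectTransparency.types false
set_option linter.style.haveILetI false

noncomputable section

universe u

open CategoryTheory AlgebraicGeometry TopologicalSpace Opposite
open Groth.Agent.QCohBase Groth.Agent.GenLocus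

namespace Groth.Agent.ParaFUFD

variable {A : Type u} [CommRing A] [IsNoetherianRing A] [IsLocalRing A]

local notation "P" => Spec (CommRingCat.of A)

/-- functions on the punctured spectrum of a ring of depth two -/
theorem ores_punctured_bijective (h : (2 : ℕ∞) ≤ LocCoh.depth A A) :
    Function.Bijective (ores (X := Spec (CommRingCat.of A)) (le_top : FEt.puncturedSpec A ≤ ⊤)) := by
  set U := FEt.puncturedSpec A
  have hcl : ∀ p : PrimeSpectrum A, (p : P) ∉ U → p = IsLocalRing.closedPoint A := fun p hp => by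
    by_contra hne
    exact hp hne
  have hd : FEtLib.HasRegSeq2 (Spec (CommRingCat.of A)) U := by
    refine FEtLib.hasRegSeq2_spec U fun p hp => ?_
    obtain rfl := hcl p hp
    haveI : IsLocalization.AtPrime A (IsLocalRing.closedPoint A).asIdeal := by
      refine IsLocalization.self fun x hx => ?_
      by_contra hu
      exact hx ((IsLocalRing.mem_maximalIdeal x).2 hu)
    let e : Localization.AtPrime (IsLocalRing.closedPoint A).asIdeal ≃ₐ[A] A :=
      IsLocalization.algEquiv (IsLocalRing.closedPoint A).asIdeal.primeCompl _ _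
    rw [SerreLift.depth_eq_of_ringEquiv e.toRingEquiv]
    exact h
  haveI : CompactSpace U := isCompact_iff_compactSpace.mp (NoetherianSpace.isCompact (U : Set P))
  haveI : IsIso U.ι.appTop := hd.res_bijective_appTop
  have hb : Function.Bijective U.ι.appTop := ConcreteCategory.bijective_of_isIso U.ι.appTop
  have hle : (U.ι ''ᵁ ⊤ : (P).Opens) ≤ ⊤ := le_top
  refine (ParaFLib.ores_bijective_iff le_top hle U.ι_image_top.symm rfl).2 ?_
  exact hb

omit [IsNoetherianRing A] [IsLocalRing A] in
theorem dvd_of_pow_dvd_mul [IsDomain A] {a b : A} (ha : a ≠ 0) (h : ∀ y, a ∣ b * y → a ∣ y) :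
    ∀ (N M : ℕ) (p : A), a ^ N ∣ b ^ M * p → a ^ N ∣ p := by
  have h1 : ∀ (M : ℕ) (p : A), a ∣ b ^ M * p → a ∣ p := by
    intro M
    induction M with
    | zero => intro p hp; simpa using hp
    | succ M ih => intro p hp; exact ih p (h _ (by rwa [pow_succ', mul_assoc] at hp))
  intro N
  induction N with
  | zero => intros; simp
  | succ N ih =>
    intro M p hp
    obtain ⟨p₁, rfl⟩ := h1 M p (dvd_trans (dvd_pow_self a N.succ_ne_zero) hp)
    rw [pow_succ'] at hp ⊢
    refine mul_dvd_mul_left a (ih M p₁ ?_)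
    have : a * a ^ N ∣ a * (b ^ M * p₁) := by rw [mul_left_comm]; exact hp
    exact (mul_dvd_mul_iff_left ha).1 this

theorem ores_bijective_of_eq {X : Scheme.{u}} {a b : X.Opens} (h : b ≤ a) (e : a = b) :
    Function.Bijective (ores h) := by
  subst e
  exact ⟨fun x y hxy => by simpa [ores] using hxy, fun x => ⟨x, by simp [ores]⟩⟩

theorem mem_nonZeroDivisors_of_isSMulRegular {R : Type*} [CommRing R] {a : R} (h : IsSMulRegular R a) :
    a ∈ nonZeroDivisors R :=
  mem_nonZeroDivisors_iff_right.2 fun x hx => h.right_eq_zero_of_smul (by rw [smul_eq_mul, mul_comm]; exact hx)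

omit [IsNoetherianRing A] [IsLocalRing A] in
/-- frames can be tested on basic opens -/
theorem isFrame_of_basicOpens {M : (P).Modules} {U : (P).Opens} {e : Γ(M, U)}
    (h : ∀ (f : A) (hf : (PrimeSpectrum.basicOpen f : (P).Opens) ≤ U),
      Function.Bijective fun r : Γ(P, (PrimeSpectrum.basicOpen f : (P).Opens)) => r • mres M hf e) :
    IsFrame M e := by
  intro V hV
  have hex : ∀ x : V, ∃ f : A, f ∉ x.1.asIdeal ∧ (PrimeSpectrum.basicOpen f : (P).Opens) ≤ V := fun x => by
    obtain ⟨_, ⟨f, rfl⟩, hxf, hf⟩ := PrimeSpectrum.isTopologicalBasis_basic_opens.exists_subset_of_mem_open x.2 V.2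
    exact ⟨f, hxf, hf⟩
  choose f hxf hfV using hex
  let O : V → (P).Opens := fun x => PrimeSpectrum.basicOpen (f x)
  have hcov : V ≤ iSup O := fun x hx => Opens.mem_iSup.2 ⟨⟨x, hx⟩, hxf ⟨x, hx⟩⟩
  have hO : ∀ x, O x ≤ U := fun x => (hfV x).trans hV
  refine ⟨fun r r' hr => ?_, fun y => ?_⟩
  · refine TopCat.Sheaf.eq_of_locally_eq' (Spec (CommRingCat.of A)).sheaf O V (fun x => homOfLE (hfV x)) hcov r r' fun x => (h (f x) (hO x)).1 ?_
    have := congrArg (mres M (hfV x)) hr
    simp only [mres_smul, mres_mres] at this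
    exact this
  · choose r hr using fun x => (h (f x) (hO x)).2 (mres M (hfV x) y)
    obtain ⟨t, ht, -⟩ := TopCat.Sheaf.existsUnique_gluing' (Spec (CommRingCat.of A)).sheaf O V
      (fun x => homOfLE (hfV x)) hcov r fun x x' => by
        have e1 : (O x ⊓ O x' : (P).Opens) = PrimeSpectrum.basicOpen (f x * f x') := (PrimeSpectrum.basicOpen_mul _ _).symm
        have hle : (PrimeSpectrum.basicOpen (f x * f x') : (P).Opens) ≤ O x ⊓ O x' := e1.ge
        refine (ores_bijective_of_eq hle e1).1 ((h (f x * f x') (hle.trans (inf_le_left.trans (hO x)))).1 ?_)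
        have a1 := congrArg (mres M (hle.trans inf_le_left)) (hr x)
        have a2 := congrArg (mres M (hle.trans inf_le_right)) (hr x')
        simp only [mres_smul, mres_mres] at a1 a2
        show ores hle (ores inf_le_left (r x)) • _ = ores hle (ores inf_le_right (r x')) • _
        rw [ores_ores, ores_ores]
        have a3 := a1.trans ((mres_mres M _ _ _).trans ((mres_mres M _ _ _).symm.trans a2.symm))
        rwa [mres_mres, mres_mres] at a3
    refine ⟨t, eq_of_iSup_le M O hfV hcov _ _ fun x => ?_⟩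
    simp only [mres_smul, mres_mres]
    rw [show ores (hfV x) t = r x from ht x]
    exact hr x

/-- A Noetherian local ring whose punctured spectrum is locally factorial, has depth two and trivial
Picard group is a domain. -/
theorem isDomain_of_punctured (hd : (2 : ℕ∞) ≤ LocCoh.depth A A)
    (hU : ∀ y : PrimeSpectrum A, y ≠ IsLocalRing.closedPoint A → IsDomain (Localization.AtPrime y.asIdeal)) :
    IsDomain A := by
  classical
  obtain ⟨a, ha, hreg⟩ : ∃ a ∈ IsLocalRing.maximalIdeal A, IsSMulRegular A a := by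
    obtain ⟨rs, hl, hm, hr⟩ := (Depth.le_idealDepth_iff_exists
      (Depth.smul_top_ne_top_self (IsLocalRing.maximalIdeal.isMaximal _).ne_top) (n := 2)).mp hd
    match rs, hl with
    | [a, b], _ => exact ⟨a, hm a (by simp), (FlatPurLib.dvd_of_isWeaklyRegular hr).1⟩
  have hmin : ∀ p ∈ minimalPrimes A, p ≠ IsLocalRing.maximalIdeal A := fun p hp h => by
    have hpp := hp.1.1
    exact (Set.disjoint_left.1 (Ideal.disjoint_nonZeroDivisors_of_mem_minimalPrimes hp)) (h ▸ ha)
      (mem_nonZeroDivisors_of_isSMulRegular hreg)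
  have huniq : ∀ y : PrimeSpectrum A, y ≠ IsLocalRing.closedPoint A → ∀ p ∈ minimalPrimes A, ∀ q ∈ minimalPrimes A,
      p ≤ y.asIdeal → q ≤ y.asIdeal → p = q := by
    intro y hy p hp q hq hpy hqy
    haveI := hU y hy
    have hker : RingHom.ker (algebraMap A (Localization.AtPrime y.asIdeal)) ≤ p ∧ RingHom.ker (algebraMap A (Localization.AtPrime y.asIdeal)) ≤ q := by
      constructor
      all_goals
        intro x hx
        obtain ⟨m, hm⟩ := (IsLocalization.map_eq_zero_iff y.asIdeal.primeCompl _ x).1 hx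
      · exact ((hp.1.1.mem_or_mem (show (m : A) * x ∈ p by rw [hm]; exact p.zero_mem)).resolve_left fun h => m.2 (hpy h))
      · exact ((hq.1.1.mem_or_mem (show (m : A) * x ∈ q by rw [hm]; exact q.zero_mem)).resolve_left fun h => m.2 (hqy h))
    haveI : (RingHom.ker (algebraMap A (Localization.AtPrime y.asIdeal))).IsPrime := RingHom.ker_isPrime _
    exact (le_antisymm (hp.2 ⟨inferInstance, bot_le⟩ hker.1) hker.1).trans (le_antisymm hker.2 (hq.2 ⟨inferInstance, bot_le⟩ hker.2))
  set U := FEt.puncturedSpec A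
  have hmemU : ∀ y : PrimeSpectrum A, (y : P) ∈ U ↔ y ≠ IsLocalRing.closedPoint A := fun y => Iff.rfl
  obtain ⟨p₀, hp₀⟩ : (minimalPrimes A).Nonempty := by
    obtain ⟨x⟩ := Ideal.nonempty_minimalPrimes (R := A) (I := ⊥) bot_ne_top
    exact ⟨x.1, x.2⟩
  have hfin : (minimalPrimes A).Finite := minimalPrimes.finite_of_isNoetherianRing A
  -- two clopen pieces
  let O : ULift.{u} Bool → (P).Opens := fun i =>
    U ⊓ ⟨(⋃ q ∈ {q ∈ minimalPrimes A | (q = p₀) ↔ (i.down = false)}, PrimeSpectrum.zeroLocus (q : Set A))ᶜ,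
      ((hfin.subset (fun q hq => hq.1)).isClosed_biUnion fun q _ => PrimeSpectrum.isClosed_zeroLocus _).isOpen_compl⟩
  have hO : ∀ (i : ULift.{u} Bool) (y : PrimeSpectrum A), (y : P) ∈ O i ↔
      y ≠ IsLocalRing.closedPoint A ∧ ∀ q ∈ minimalPrimes A, ((q = p₀) ↔ (i.down = false)) → ¬ q ≤ y.asIdeal := by
    intro i y
    refine and_congr (hmemU y) ?_
    show y ∈ (⋃ q ∈ {q ∈ minimalPrimes A | (q = p₀) ↔ (i.down = false)}, PrimeSpectrum.zeroLocus (q : Set A))ᶜ ↔ _
    simp only [Set.mem_compl_iff, Set.mem_iUnion, Set.mem_ofPred_eq, PrimeSpectrum.mem_zeroLocus, SetLike.coe_subset_coe, exists_prop, not_exists, not_and, and_imp]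
  have hdisj : ∀ i j : ULift.{u} Bool, i ≠ j → ¬ ((O i ⊓ O j : (P).Opens) : Set P).Nonempty := by
    rintro i j hij ⟨y, hyi, hyj⟩
    obtain ⟨q, hq, hqy⟩ := Ideal.exists_minimalPrimes_le (I := (⊥ : Ideal A)) (J := (y : PrimeSpectrum A).asIdeal) bot_le
    have h1 := ((hO i y).1 hyi).2 q hq
    have h2 := ((hO j y).1 hyj).2 q hq
    rcases i with ⟨_ | _⟩ <;> rcases j with ⟨_ | _⟩ <;> simp_all
  have hcov : U ≤ iSup O := by
    intro y hy
    obtain ⟨q, hq, hqy⟩ := Ideal.exists_minimalPrimes_le (I := (⊥ : Ideal A)) (J := (y : PrimeSpectrum A).asIdeal) bot_le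
    refine Opens.mem_iSup.2 ⟨⟨decide (q = p₀) == false |> not⟩, (hO _ y).2 ⟨hy, fun q' hq' hiff hle => ?_⟩⟩
    obtain rfl := huniq y hy q hq q' hq' hqy hle
    by_cases h : q = p₀ <;> simp [h] at hiff
  let s : ∀ i, Γ(P, O i) := fun i => if i.down then 1 else 0
  obtain ⟨E, hE, -⟩ := TopCat.Sheaf.existsUnique_gluing' (Spec (CommRingCat.of A)).sheaf O U
    (fun i => homOfLE inf_le_left) hcov s (fun i j => by
      by_cases hij : i = j
      · subst hij; rfl
      · exact mres_bot_ext (Coh.structureModule (Spec (CommRingCat.of A))) (hdisj i j hij) _ _)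
  obtain ⟨e, he⟩ := (ores_punctured_bijective hd).2 E
  have hidem : e * e = e := by
    refine (ores_punctured_bijective hd).1 ?_
    rw [map_mul, he]
    refine TopCat.Sheaf.eq_of_locally_eq' (Spec (CommRingCat.of A)).sheaf O U (fun i => homOfLE inf_le_left) hcov _ _ fun i => ?_
    show ores _ (E * E) = ores _ E
    rw [map_mul, show ores (inf_le_left : O i ≤ U) E = s i from hE i]
    simp only [s]; split <;> simp
  obtain ⟨e₀, rfl⟩ := (Scheme.ΓSpecIso (CommRingCat.of A)).commRingCatIsoToRingEquiv.symm.surjective e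
  have hid' : IsIdempotentElem e₀ :=
    (Scheme.ΓSpecIso (CommRingCat.of A)).commRingCatIsoToRingEquiv.symm.injective (by rw [map_mul]; exact hidem)
  have hglo : glo U e₀ = E := he
  have hall : ∀ q ∈ minimalPrimes A, q = p₀ := by
    intro q hq
    by_contra hne
    have hqU : ∀ q' ∈ minimalPrimes A, ∀ h : q'.IsPrime, (⟨q', h⟩ : PrimeSpectrum A) ≠ IsLocalRing.closedPoint A :=
      fun q' hq' h he' => hmin q' hq' (congrArg PrimeSpectrum.asIdeal he')
    have hy₀ : (⟨p₀, hp₀.1.1⟩ : PrimeSpectrum A) ≠ IsLocalRing.closedPoint A := hqU p₀ hp₀ _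
    have hy₁ : (⟨q, hq.1.1⟩ : PrimeSpectrum A) ≠ IsLocalRing.closedPoint A := hqU q hq _
    have m0 : ((⟨p₀, hp₀.1.1⟩ : PrimeSpectrum A) : P) ∈ O ⟨true⟩ := (hO _ _).2 ⟨hy₀, fun q' hq' hiff hle => by
      have := huniq _ hy₀ q' hq' p₀ hp₀ hle le_rfl
      simp [this] at hiff⟩
    have m1 : ((⟨q, hq.1.1⟩ : PrimeSpectrum A) : P) ∈ O ⟨false⟩ := (hO _ _).2 ⟨hy₁, fun q' hq' hiff hle => by
      have := huniq _ hy₁ q' hq' q hq hle le_rfl
      simp [this, hne] at hiff⟩
    have r0 : glo (O ⟨true⟩) e₀ = 1 := by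
      rw [← ores_glo (inf_le_left : O ⟨true⟩ ≤ U), hglo]; exact hE ⟨true⟩
    have r1 : glo (O ⟨false⟩) e₀ = 0 := by
      rw [← ores_glo (inf_le_left : O ⟨false⟩ ≤ U), hglo]; exact hE ⟨false⟩
    have h01 : e₀ = 0 ∨ e₀ = 1 := by
      rcases IsLocalRing.isUnit_or_isUnit_one_sub_self e₀ with h | h
      · exact Or.inr (h.mul_left_cancel (hid'.eq.trans (mul_one e₀).symm))
      · exact Or.inl (h.mul_left_cancel (by rw [mul_zero, sub_mul, one_mul, hid'.eq, sub_self]))
    rcases h01 with rfl | rfl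
    · have := (isUnit_glo_iff (O ⟨true⟩) (0 : A)).1 (by rw [r0]; exact isUnit_one) _ m0
      exact this (Ideal.zero_mem _)
    · have h1 : IsUnit (glo (O ⟨false⟩) (1 : A)) := (isUnit_glo_iff _ _).2 fun x _ h => x.isPrime.ne_top ((Ideal.eq_top_iff_one _).2 h)
      rw [r1] at h1
      have := (mem_basicOpen_glo (W := O ⟨false⟩) (1 : A) m1).2 (fun h => hq.1.1.ne_top ((Ideal.eq_top_iff_one _).2 h))
      rw [r1, Scheme.basicOpen_zero] at this
      exact this
  -- reduced
  have hred : IsReduced A := ⟨fun x hx => by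
    refine (Scheme.ΓSpecIso (CommRingCat.of A)).commRingCatIsoToRingEquiv.symm.injective ((ores_punctured_bijective hd).1 ?_)
    rw [map_zero, map_zero]
    refine TopCat.Presheaf.section_ext (Spec (CommRingCat.of A)).sheaf U _ _ fun y hy => ?_
    haveI := hU y hy
    haveI : IsDomain ((Spec.structureSheaf A).presheaf.stalk (y : PrimeSpectrum A)) :=
      (IsLocalization.algEquiv (y : PrimeSpectrum A).asIdeal.primeCompl (Localization.AtPrime (y : PrimeSpectrum A).asIdeal) _).toRingEquiv.toMulEquiv.isDomain_iff.1 inferInstance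
    haveI : IsReduced ((Spec (CommRingCat.of A)).sheaf.presheaf.stalk y) :=
      inferInstanceAs (IsReduced ((Spec.structureSheaf A).presheaf.stalk (y : PrimeSpectrum A)))
    refine (IsNilpotent.eq_zero ?_).trans (map_zero _).symm
    exact (((hx.map (Scheme.ΓSpecIso (CommRingCat.of A)).commRingCatIsoToRingEquiv.symm).map
      (ores (le_top : U ≤ ⊤))).map ((Spec (CommRingCat.of A)).presheaf.germ U y hy).hom)⟩
  haveI := hred
  have hbot : (⊥ : Ideal A) = p₀ := by
    refine le_antisymm bot_le ?_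
    have : sInf (minimalPrimes A) = ⊥ := by
      rw [minimalPrimes, Ideal.sInf_minimalPrimes]; exact nilradical_eq_zero A
    exact this ▸ le_sInf fun q hq => (hall q hq).ge
  haveI : (⊥ : Ideal A).IsPrime := hbot ▸ hp₀.1.1
  exact IsDomain.of_bot_isPrime A

end Groth.Agent.ParaFUFD
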